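import Groth.Prelude.Def_Biext
import Mathlib.CategoryTheory.Sites.LocallySurjective
import Mathlib.CategoryTheory.Sites.Abelian
import Mathlib.CategoryTheory.Sites.EpiMono

/-!
# A biextension of divisible sheaves with a trivial inverse image along multiplications is trivial
-/

set_option autoImplicit false
set_option linter.style.haveILetI false
set_option linter.unusedSectionVars false
set_option backward.isDefEq.respectTransparency false
set_option backward.isDefEq.respectTransparency.types false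

universe u

open CategoryTheory Opposite

noncomputable section

namespace Groth.Agent.BiextDiv22

variable {C : Type (u + 1)} [Category.{u} C] {J : GrothendieckTopology C}
variable {P Q G : Sheaf J AddCommGrpCat.{u + 1}}

theorem zsmul_id_app (k : ℤ) (T : C) (p : P.obj.obj (op T)) : (k • 𝟙 P).hom.app (op T) p = k • p := by
  let ev : (P ⟶ P) →+ (P.obj.obj (op T) →+ P.obj.obj (op T)) :=
    AddMonoidHom.mk' (fun f => (f.hom.app (op T)).hom) (fun _ _ => rfl)
  exact DFunLike.congr_fun (map_zsmul ev k (𝟙 P)) p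

variable (B B' : Biext J P Q G) {n m : ℤ} (φ : Biext.HomOver J (n • 𝟙 P) (m • 𝟙 Q) (𝟙 G) B' B)
  (s : Biext.Splitting J B')

/-- The image of the splitting. -/
def tau (T : C) (p : P.obj.obj (op T)) (q : Q.obj.obj (op T)) : B.E.obj.obj (op T) := φ.map T (s.σ T p q)

theorem πP_tau (T : C) (p : P.obj.obj (op T)) (q : Q.obj.obj (op T)) : B.πP T (tau B B' φ s T p q) = n • p := by
  rw [tau, φ.πP_map, s.πP_σ, zsmul_id_app]

theorem πQ_tau (T : C) (p : P.obj.obj (op T)) (q : Q.obj.obj (op T)) : B.πQ T (tau B B' φ s T p q) = m • q := by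
  rw [tau, φ.πQ_map, s.πQ_σ, zsmul_id_app]

theorem tau_map {T T' : C} (f : T' ⟶ T) (p : P.obj.obj (op T)) (q : Q.obj.obj (op T)) :
    B.E.obj.map f.op (tau B B' φ s T p q) = tau B B' φ s T' (P.obj.map f.op p) (Q.obj.map f.op q) := by
  rw [tau, ← φ.map_res, s.σ_map]
  rfl

theorem tau_add₁ (T : C) (p p' : P.obj.obj (op T)) (q : Q.obj.obj (op T)) :
    tau B B' φ s T (p + p') q = B.add₁ T (tau B B' φ s T p q) (tau B B' φ s T p' q)
      ((πQ_tau B B' φ s T p q).trans (πQ_tau B B' φ s T p' q).symm) := by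
  show φ.map T (s.σ T (p + p') q) = _
  rw [s.σ_add₁, φ.map_add₁]
  rfl

theorem tau_add₂ (T : C) (p : P.obj.obj (op T)) (q q' : Q.obj.obj (op T)) :
    tau B B' φ s T p (q + q') = B.add₂ T (tau B B' φ s T p q) (tau B B' φ s T p q')
      ((πP_tau B B' φ s T p q).trans (πP_tau B B' φ s T p q').symm) := by
  show φ.map T (s.σ T p (q + q')) = _
  rw [s.σ_add₂, φ.map_add₂]
  rfl

section diff

variable (T : C)

theorem exists_diff₁ (a : P.obj.obj (op T)) (ha : n • a = 0) (q : Q.obj.obj (op T)) :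
    ∃! g : G.obj.obj (op T), B.act T g (tau B B' φ s T 0 q) = tau B B' φ s T a q :=
  B.existsUnique_act T _ _ (by rw [πP_tau, πP_tau, smul_zero, ha]) (by rw [πQ_tau, πQ_tau])

theorem exists_diff₂ (p : P.obj.obj (op T)) (b : Q.obj.obj (op T)) (hb : m • b = 0) :
    ∃! g : G.obj.obj (op T), B.act T g (tau B B' φ s T p 0) = tau B B' φ s T p b :=
  B.existsUnique_act T _ _ (by rw [πP_tau, πP_tau]) (by rw [πQ_tau, πQ_tau, smul_zero, hb])

end diff

theorem add₁_congr (T : C) {x x' z z' : B.E.obj.obj (op T)} (h : B.πQ T x = B.πQ T z) (hx : x = x') (hz : z = z') :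
    B.add₁ T x z h = B.add₁ T x' z' (hx ▸ hz ▸ h) := by subst hx; subst hz; rfl

theorem add₂_congr (T : C) {x x' z z' : B.E.obj.obj (op T)} (h : B.πP T x = B.πP T z) (hx : x = x') (hz : z = z') :
    B.add₂ T x z h = B.add₂ T x' z' (hx ▸ hz ▸ h) := by subst hx; subst hz; rfl

theorem add₁_act_act (T : C) (g g' : G.obj.obj (op T)) (x z : B.E.obj.obj (op T)) (h : B.πQ T x = B.πQ T z) :
    B.add₁ T (B.act T g x) (B.act T g' z) (by rw [B.πQ_act, B.πQ_act, h]) = B.act T (g + g') (B.add₁ T x z h) := by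
  rw [B.add₁_act T g x _ (h.trans (B.πQ_act T g' z).symm), B.add₁_comm, B.add₁_act T g' z x h.symm,
    B.add₁_comm T z x h.symm, B.add_act]

theorem add₂_act_act (T : C) (g g' : G.obj.obj (op T)) (x z : B.E.obj.obj (op T)) (h : B.πP T x = B.πP T z) :
    B.add₂ T (B.act T g x) (B.act T g' z) (by rw [B.πP_act, B.πP_act, h]) = B.act T (g + g') (B.add₂ T x z h) := by
  rw [B.add₂_act T g x _ (h.trans (B.πP_act T g' z).symm), B.add₂_comm, B.add₂_act T g' z x h.symm,
    B.add₂_comm T z x h.symm, B.add_act]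

/-- Locally multiples. -/
def LocDiv (R : Sheaf J AddCommGrpCat.{u + 1}) (k : ℤ) : Prop :=
  ∀ (T : C) (x : R.obj.obj (op T)), ∃ S ∈ J T, ∀ ⦃T' : C⦄ (f : T' ⟶ T), S f →
    ∃ y : R.obj.obj (op T'), k • y = R.obj.map f.op x

theorem G_ext {T : C} {S : Sieve T} (hS : S ∈ J T) (g g' : G.obj.obj (op T))
    (h : ∀ ⦃T' : C⦄ (f : T' ⟶ T), S f → G.obj.map f.op g = G.obj.map f.op g') : g = g' :=
  (((isSheaf_iff_isSheaf_of_type J _).1 (Biext.uSh J G).property) S hS).isSeparatedFor.ext h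

theorem E_ext {T : C} {S : Sieve T} (hS : S ∈ J T) (g g' : B.E.obj.obj (op T))
    (h : ∀ ⦃T' : C⦄ (f : T' ⟶ T), S f → B.E.obj.map f.op g = B.E.obj.map f.op g') : g = g' :=
  (((isSheaf_iff_isSheaf_of_type J _).1 B.E.property) S hS).isSeparatedFor.ext h

/-- A torsion section of the first factor does not move the image of the splitting. -/
theorem tau_torsion₁ (hQ : LocDiv Q n) (T : C) (a : P.obj.obj (op T)) (ha : n • a = 0) (q : Q.obj.obj (op T)) :
    tau B B' φ s T a q = tau B B' φ s T 0 q := by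
  obtain ⟨g, hg, hgu⟩ := exists_diff₁ B B' φ s T a ha q
  suffices g = 0 by rw [← hg, this, B.zero_act]
  obtain ⟨S, hS, hdiv⟩ := hQ T q
  refine G_ext hS g 0 fun T' f hf => ?_
  obtain ⟨y, hy⟩ := hdiv f hf
  rw [map_zero]
  set a' := P.obj.map f.op a with ha'
  have hna : ∀ c : ℤ, n • (c • a') = 0 := fun c => by rw [smul_comm, ha', ← map_zsmul, ha, map_zero, smul_zero]
  -- the pairing with a fixed torsion section
  choose d hd using fun (c : P.obj.obj (op T')) (hc : n • c = 0) (r : Q.obj.obj (op T')) =>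
    (exists_diff₁ B B' φ s T' c hc r).exists
  have hdu : ∀ c hc r g', B.act T' g' (tau B B' φ s T' 0 r) = tau B B' φ s T' c r → d c hc r = g' :=
    fun c hc r g' h' => (exists_diff₁ B B' φ s T' c hc r).unique (hd c hc r) h'
  let D : {c : P.obj.obj (op T') // n • c = 0} → Q.obj.obj (op T') → G.obj.obj (op T') := fun c r => d c.1 c.2 r
  let K := (zsmulAddGroupHom n : P.obj.obj (op T') →+ P.obj.obj (op T')).ker
  let Dr : Q.obj.obj (op T') → (K →+ G.obj.obj (op T')) := fun r => AddMonoidHom.mk' (fun c => d c.1 c.2 r)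
    fun c c' => hdu _ _ _ _ (by
      show _ = tau B B' φ s T' (c.1 + c'.1) r
      rw [tau_add₁, add₁_congr B T' _ (hd c.1 c.2 r).symm (hd c'.1 c'.2 r).symm, add₁_act_act B T' _ _ _ _ rfl,
        ← tau_add₁, add_zero])
  let Dc : K → (Q.obj.obj (op T') →+ G.obj.obj (op T')) := fun c => AddMonoidHom.mk' (fun r => d c.1 c.2 r)
    fun r r' => hdu _ _ _ _ (by
      show _ = tau B B' φ s T' c.1 (r + r')
      rw [tau_add₂ B B' φ s T' c.1, add₂_congr B T' _ (hd c.1 c.2 r).symm (hd c.1 c.2 r').symm,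
        add₂_act_act B T' _ _ _ _ ((πP_tau B B' φ s T' 0 r).trans (πP_tau B B' φ s T' 0 r').symm),
        ← tau_add₂])
  have hna' : n • a' = 0 := by rw [ha', ← map_zsmul, ha, map_zero]
  let c₀ : K := ⟨a', hna'⟩
  have h1 : d a' c₀.2 (Q.obj.map f.op q) = G.obj.map f.op g := hdu _ _ _ _ (by
    have h := congrArg (B.E.obj.map f.op) hg
    rwa [B.act_map, tau_map, tau_map, map_zero] at h)
  have h0 : n • c₀ = 0 := Subtype.ext (by
    show n • a' = 0
    simpa using hna 1)
  rw [← h1, ← hy]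
  show Dc c₀ (n • y) = 0
  rw [map_zsmul]
  show n • Dr y c₀ = 0
  rw [← map_zsmul, h0, map_zero]

/-- A torsion section of the second factor does not move the image of the splitting. -/
theorem tau_torsion₂ (hP : LocDiv P m) (T : C) (p : P.obj.obj (op T)) (b : Q.obj.obj (op T)) (hb : m • b = 0) :
    tau B B' φ s T p b = tau B B' φ s T p 0 := by
  obtain ⟨g, hg, hgu⟩ := exists_diff₂ B B' φ s T p b hb
  suffices g = 0 by rw [← hg, this, B.zero_act]
  obtain ⟨S, hS, hdiv⟩ := hP T p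
  refine G_ext hS g 0 fun T' f hf => ?_
  obtain ⟨y, hy⟩ := hdiv f hf
  rw [map_zero]
  set b' := Q.obj.map f.op b with hb'
  have hmb : m • b' = 0 := by rw [hb', ← map_zsmul, hb, map_zero]
  choose d hd using fun (c : Q.obj.obj (op T')) (hc : m • c = 0) (r : P.obj.obj (op T')) =>
    (exists_diff₂ B B' φ s T' r c hc).exists
  have hdu : ∀ c hc r g', B.act T' g' (tau B B' φ s T' r 0) = tau B B' φ s T' r c → d c hc r = g' :=
    fun c hc r g' h' => (exists_diff₂ B B' φ s T' r c hc).unique (hd c hc r) h'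
  let K := (zsmulAddGroupHom m : Q.obj.obj (op T') →+ Q.obj.obj (op T')).ker
  let Dr : P.obj.obj (op T') → (K →+ G.obj.obj (op T')) := fun r => AddMonoidHom.mk' (fun c => d c.1 c.2 r)
    fun c c' => hdu _ _ _ _ (by
      show _ = tau B B' φ s T' r (c.1 + c'.1)
      rw [tau_add₂, add₂_congr B T' _ (hd c.1 c.2 r).symm (hd c'.1 c'.2 r).symm, add₂_act_act B T' _ _ _ _ rfl,
        ← tau_add₂, add_zero])
  let Dc : K → (P.obj.obj (op T') →+ G.obj.obj (op T')) := fun c => AddMonoidHom.mk' (fun r => d c.1 c.2 r)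
    fun r r' => hdu _ _ _ _ (by
      show _ = tau B B' φ s T' (r + r') c.1
      rw [tau_add₁ B B' φ s T' r r' c.1, add₁_congr B T' _ (hd c.1 c.2 r).symm (hd c.1 c.2 r').symm,
        add₁_act_act B T' _ _ _ _ ((πQ_tau B B' φ s T' r 0).trans (πQ_tau B B' φ s T' r' 0).symm),
        ← tau_add₁])
  let c₀ : K := ⟨b', hmb⟩
  have h1 : d b' hmb (P.obj.map f.op p) = G.obj.map f.op g := hdu _ _ _ _ (by
    have h := congrArg (B.E.obj.map f.op) hg
    rwa [B.act_map, tau_map, tau_map, map_zero] at h)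
  rw [← h1, ← hy]
  show Dc c₀ (m • y) = 0
  rw [map_zsmul]
  show m • Dr y c₀ = 0
  rw [← map_zsmul, show m • c₀ = 0 from Subtype.ext hmb, map_zero]

/-- The image of the splitting depends only on the image of its arguments. -/
theorem tau_congr (hP : LocDiv P m) (hQ : LocDiv Q n) (T : C) {p p' : P.obj.obj (op T)} {q q' : Q.obj.obj (op T)}
    (hp : n • p = n • p') (hq : m • q = m • q') : tau B B' φ s T p q = tau B B' φ s T p' q' := by
  have h1 : tau B B' φ s T p q = tau B B' φ s T p' q := by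
    have e : p = p' + (p - p') := by rw [add_sub_cancel]
    rw [e, tau_add₁, add₁_congr B T _ rfl
      (tau_torsion₁ B B' φ s hQ T (p - p') (by rw [smul_sub, hp, sub_self]) q), ← tau_add₁, add_zero]
  rw [h1]
  have e : q = q' + (q - q') := by rw [add_sub_cancel]
  rw [e, tau_add₂, add₂_congr B T _ rfl
    (tau_torsion₂ B B' φ s hP T p' (q - q') (by rw [smul_sub, hq, sub_self])), ← tau_add₂, add_zero]

include φ s in
/-- The trivialisation descends. -/
theorem isTrivial (hPn : LocDiv P n) (hPm : LocDiv P m) (hQn : LocDiv Q n) (hQm : LocDiv Q m) :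
    Biext.IsTrivial J B := by
  classical
  let L : ∀ {T : C}, P.obj.obj (op T) → Q.obj.obj (op T) → ∀ {T' : C}, (T' ⟶ T) → Prop := fun p q T' f =>
    (∃ p', n • p' = P.obj.map f.op p) ∧ ∃ q', m • q' = Q.obj.map f.op q
  let Sv : ∀ (T : C), P.obj.obj (op T) → Q.obj.obj (op T) → Sieve T := fun T p q =>
    { arrows := fun T' f => L p q f
      downward_closed := fun {Y Z} f hf g => by
        obtain ⟨⟨p', hp⟩, q', hq⟩ := hf
        exact ⟨⟨P.obj.map g.op p', by rw [← map_zsmul, hp, op_comp, Functor.map_comp, ConcreteCategory.comp_apply]⟩,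
          Q.obj.map g.op q', by rw [← map_zsmul, hq, op_comp, Functor.map_comp, ConcreteCategory.comp_apply]⟩ }
  have hSv : ∀ T p q, Sv T p q ∈ J T := fun T p q => by
    obtain ⟨S₁, hS₁, h₁⟩ := hPn T p
    obtain ⟨S₂, hS₂, h₂⟩ := hQm T q
    refine J.superset_covering ?_ (J.intersection_covering hS₁ hS₂)
    intro Y f hf
    exact ⟨h₁ f hf.1, h₂ f hf.2⟩
  let fam : ∀ T p q, Presieve.FamilyOfElements B.E.obj (Sv T p q).arrows := fun T p q T' f (hf : L p q f) =>
    tau B B' φ s T' hf.1.choose hf.2.choose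
  have hfam : ∀ T p q, (fam T p q).Compatible := fun T p q T₁ T₂ Z g₁ g₂ f₁ f₂ h₁ h₂ e => by
    show B.E.obj.map g₁.op (tau B B' φ s T₁ _ _) = B.E.obj.map g₂.op (tau B B' φ s T₂ _ _)
    rw [tau_map, tau_map]
    refine tau_congr B B' φ s hPm hQn Z ?_ ?_
    · rw [← map_zsmul, ← map_zsmul, h₁.1.choose_spec, h₂.1.choose_spec, ← ConcreteCategory.comp_apply,
        ← ConcreteCategory.comp_apply, ← Functor.map_comp, ← Functor.map_comp, ← op_comp, ← op_comp, e]
    · rw [← map_zsmul, ← map_zsmul, h₁.2.choose_spec, h₂.2.choose_spec, ← ConcreteCategory.comp_apply,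
        ← ConcreteCategory.comp_apply, ← Functor.map_comp, ← Functor.map_comp, ← op_comp, ← op_comp, e]
  have hsh := fun T p q => ((isSheaf_iff_isSheaf_of_type J _).1 B.E.property) (Sv T p q) (hSv T p q)
  let σ : ∀ (T : C), P.obj.obj (op T) → Q.obj.obj (op T) → B.E.obj.obj (op T) := fun T p q =>
    (hsh T p q).amalgamate (fam T p q) (hfam T p q)
  have hσ : ∀ {T T' : C} (f : T' ⟶ T) (p : P.obj.obj (op T)) (q : Q.obj.obj (op T))
      (p' : P.obj.obj (op T')) (q' : Q.obj.obj (op T')), n • p' = P.obj.map f.op p → m • q' = Q.obj.map f.op q →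
      B.E.obj.map f.op (σ T p q) = tau B B' φ s T' p' q' := fun {T T'} f p q p' q' hp hq => by
    have hf : Sv T p q f := ⟨⟨p', hp⟩, q', hq⟩
    rw [(hsh T p q).valid_glue (hfam T p q) f hf]
    exact tau_congr B B' φ s hPm hQn T' (hf.1.choose_spec.trans hp.symm) (hf.2.choose_spec.trans hq.symm)
  have uP : ∀ {T : C} {S : Sieve T}, S ∈ J T → ∀ (x y : P.obj.obj (op T)),
      (∀ ⦃T' : C⦄ (f : T' ⟶ T), S f → P.obj.map f.op x = P.obj.map f.op y) → x = y :=
    fun hS x y h => G_ext (G := P) hS x y h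
  have uQ : ∀ {T : C} {S : Sieve T}, S ∈ J T → ∀ (x y : Q.obj.obj (op T)),
      (∀ ⦃T' : C⦄ (f : T' ⟶ T), S f → Q.obj.map f.op x = Q.obj.map f.op y) → x = y :=
    fun hS x y h => G_ext (G := Q) hS x y h
  refine ⟨{ σ := σ, πP_σ := ?_, πQ_σ := ?_, σ_map := ?_, σ_add₁ := ?_, σ_add₂ := ?_ }⟩
  · intro T p q
    refine uP (hSv T p q) _ _ fun T' f hf => ?_
    obtain ⟨⟨p', hp⟩, q', hq⟩ := hf
    rw [← B.πP_map, hσ f p q p' q' hp hq, πP_tau, hp]
  · intro T p q
    refine uQ (hSv T p q) _ _ fun T' f hf => ?_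
    obtain ⟨⟨p', hp⟩, q', hq⟩ := hf
    rw [← B.πQ_map, hσ f p q p' q' hp hq, πQ_tau, hq]
  · intro T T' g p q
    refine E_ext B (hSv T' (P.obj.map g.op p) (Q.obj.map g.op q)) _ _ fun T'' f hf => ?_
    obtain ⟨⟨p', hp⟩, q', hq⟩ := hf
    rw [hσ f _ _ p' q' hp hq, ← types_comp_apply (B.E.obj.map g.op) (B.E.obj.map f.op), ← Functor.map_comp,
      ← op_comp]
    exact hσ (f ≫ g) p q p' q' (by rw [hp, op_comp, Functor.map_comp, ConcreteCategory.comp_apply])
      (by rw [hq, op_comp, Functor.map_comp, ConcreteCategory.comp_apply])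
  · intro T p p' q
    refine E_ext B (J.intersection_covering (hSv T p q) (hSv T p' q)) _ _ fun T' f hf => ?_
    obtain ⟨⟨⟨a, ha⟩, b, hb⟩, ⟨a', ha'⟩, -⟩ := hf
    rw [hσ f (p + p') q (a + a') b (by rw [smul_add, ha, ha', map_add]) hb, B.add₁_map, tau_add₁]
    exact add₁_congr B T' _ (hσ f p q a b ha hb).symm (hσ f p' q a' b ha' hb).symm
  · intro T p q q'
    refine E_ext B (J.intersection_covering (hSv T p q) (hSv T p q')) _ _ fun T' f hf => ?_
    obtain ⟨⟨⟨a, ha⟩, b, hb⟩, -, b', hb'⟩ := hf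
    rw [hσ f p (q + q') a (b + b') ha (by rw [smul_add, hb, hb', map_add]), B.add₂_map, tau_add₂]
    exact add₂_congr B T' _ (hσ f p q a b ha hb).symm (hσ f p q' a b' ha hb').symm

end Groth.Agent.BiextDiv22

end
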